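import Mathlib
import Groth.Agent.Lib.Helper6.Sib.Singles

set_option linter.unusedSectionVars false
set_option linter.unusedVariables false
set_option linter.unusedSimpArgs false
set_option autoImplicit false
set_option linter.style.haveILetI false
set_option maxHeartbeats 400000

universe w v u

noncomputable section

namespace Groth.Agent.Helper6.DbCount

open CategoryTheory CategoryTheory.Limits DerivedCategory CategoryTheory.Pretriangulated
open Groth.Agent.Helper6.Sib

variable {C : Type u} [Category.{v} C] [Preadditive C] [HasZeroObject C] [HasShift C ℤ]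
  [∀ n : ℤ, (shiftFunctor C n).Additive] [Pretriangulated C]

/-- countability of `Hom(K, -)` passes to the middle term of a distinguished triangle -/
lemma countable_hom_right (T : Triangle C) (hT : T ∈ distTriang C) (K : C)
    (h₁ : Countable (K ⟶ T.obj₁)) (h₃ : Countable (K ⟶ T.obj₃)) : Countable (K ⟶ T.obj₂) := by
  classical
  let φ : (K ⟶ T.obj₂) → (K ⟶ T.obj₃) := fun g => g ≫ T.mor₂
  have hs : ∀ c : Set.range φ, ∃ g : K ⟶ T.obj₂, g ≫ T.mor₂ = c.1 := fun c => c.2
  choose s hs using hs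
  let Ψ : (K ⟶ T.obj₁) × Set.range φ → (K ⟶ T.obj₂) := fun x => x.1 ≫ T.mor₁ + s x.2
  have hΨ : Function.Surjective Ψ := by
    intro g
    let c : Set.range φ := ⟨g ≫ T.mor₂, g, rfl⟩
    have h0 : (g - s c) ≫ T.mor₂ = 0 := by
      rw [Preadditive.sub_comp, hs c, sub_self]
    have e1 : ∃ a : K ⟶ T.obj₁, g - s c = a ≫ T.mor₁ := Triangle.coyoneda_exact₂ T hT _ h0
    obtain ⟨a, ha⟩ := e1
    exact ⟨(a, c), by dsimp only [Ψ]; rw [← ha]; abel⟩
  exact hΨ.countable

/-- countability of `Hom(-, L)` passes to the middle term of a distinguished triangle -/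
lemma countable_hom_left (T : Triangle C) (hT : T ∈ distTriang C) (L : C)
    (h₁ : Countable (T.obj₁ ⟶ L)) (h₃ : Countable (T.obj₃ ⟶ L)) : Countable (T.obj₂ ⟶ L) := by
  classical
  let φ : (T.obj₂ ⟶ L) → (T.obj₁ ⟶ L) := fun g => T.mor₁ ≫ g
  have hs : ∀ c : Set.range φ, ∃ g : T.obj₂ ⟶ L, T.mor₁ ≫ g = c.1 := fun c => c.2
  choose s hs using hs
  let Ψ : (T.obj₃ ⟶ L) × Set.range φ → (T.obj₂ ⟶ L) := fun x => T.mor₂ ≫ x.1 + s x.2
  have hΨ : Function.Surjective Ψ := by
    intro g
    let c : Set.range φ := ⟨T.mor₁ ≫ g, g, rfl⟩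
    have h0 : T.mor₁ ≫ (g - s c) = 0 := by
      rw [Preadditive.comp_sub, hs c, sub_self]
    have e1 : ∃ a : T.obj₃ ⟶ L, g - s c = T.mor₂ ≫ a := Triangle.yoneda_exact₂ T hT _ h0
    obtain ⟨a, ha⟩ := e1
    exact ⟨(a, c), by dsimp only [Ψ]; rw [← ha]; abel⟩
  exact hΨ.countable

lemma countable_hom_of_iso {K K' L L' : C} (e₁ : K ≅ K') (e₂ : L ≅ L')
    (h : Countable (K ⟶ L)) : Countable (K' ⟶ L') :=
  (Iso.homCongr e₁ e₂).symm.injective.countable

lemma countable_hom_of_shift {K L : C} (a : ℤ) (h : Countable (K⟦a⟧ ⟶ L⟦a⟧)) :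
    Countable (K ⟶ L) :=
  ((shiftFunctor C a).map_injective (X := K) (Y := L)).countable

lemma countable_hom_shift {K L : C} (a : ℤ) (h : Countable (K ⟶ L)) :
    Countable (K⟦a⟧ ⟶ L⟦a⟧) :=
  (Functor.FullyFaithful.ofFullyFaithful (shiftFunctor C a)).homEquiv.symm.injective.countable

/-- moving a shift from the source to the target -/
lemma countable_hom_shift_target {K L : C} (a : ℤ) (h : Countable (K ⟶ L⟦-a⟧)) :
    Countable (K⟦a⟧ ⟶ L) :=
  countable_hom_of_iso (Iso.refl _) ((shiftFunctorCompIsoId C (-a) a (by simp)).app L)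
    (countable_hom_shift a h)

end Groth.Agent.Helper6.DbCount
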