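import Mathlib
import Groth.Agent.Lib.Helper6.DbCount.Hom

set_option linter.unusedSectionVars false
set_option linter.unusedVariables false
set_option linter.unusedSimpArgs false
set_option autoImplicit false
set_option linter.style.haveILetI false
set_option maxHeartbeats 400000

universe w v u

noncomputable section

namespace Groth.Agent.Helper6.DbCount

open CategoryTheory CategoryTheory.Limits DerivedCategory CategoryTheory.Pretriangulated
open Groth.Agent.Helper6.Sib

variable {A : Type u} [Category.{v} A] [Abelian A] [HasDerivedCategory.{w} A]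
  (hhom : ∀ X Y : A, Countable (X ⟶ Y))
  (e : ℕ → A) (he : ∀ X : A, ∃ n : ℕ, Nonempty (X ≅ e n))

include hhom e he in
/-- countability of maps from a single in degree `0` to a single in degree `-q` -/
theorem countable_single_source : ∀ (q : ℕ) (d' : ℤ) (hd : d' = -(q : ℤ)) (X : A)
    (T' : DerivedCategory.Bounded A) (r' : SingRep d' T'),
    Countable ((DEquiv.singleB A).obj X ⟶ T') := by
  intro q
  induction q with
  | zero =>
    intro d' hd X T' r'
    have : d' = 0 := by simpa using hd
    subst this
    haveI := hhom X r'.Y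
    have h1 : Countable ((DEquiv.singleB A).obj X ⟶ (DEquiv.singleB A).obj r'.Y) :=
      (Functor.FullyFaithful.ofFullyFaithful (DEquiv.singleB A)).homEquiv.symm.injective.countable
    exact countable_hom_of_iso (Iso.refl _)
      ((shiftFunctorZero' (DerivedCategory.Bounded A) (-0 : ℤ) (by simp)).symm.app _ ≪≫
        r'.iso.symm) h1
  | succ q ih =>
    intro d' hd X T' r'
    have hd'neg : d' < 0 := by push_cast at hd; lia
    have IH : ∀ W : A, Countable (((DEquiv.singleB A).obj W)⟦(1 : ℤ)⟧ ⟶ T') := fun W =>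
      countable_hom_shift_target 1 (ih (d' + 1) (by push_cast at hd; lia) W _
        (r'.shift (-1) (d' + 1) (by lia)))
    haveI : ∀ m : ℕ, Countable (e m ⟶ X) := fun m => hhom _ _
    have hdata : ∀ x : (Σ m : ℕ, {π : e m ⟶ X // Epi π}),
        ∃ (W : A) (ε : (DEquiv.singleB A).obj X ⟶ ((DEquiv.singleB A).obj W)⟦(1 : ℤ)⟧),
          ∀ g : (DEquiv.singleB A).obj X ⟶ T', (DEquiv.singleB A).map x.2.1 ≫ g = 0 →
            ∃ g' : ((DEquiv.singleB A).obj W)⟦(1 : ℤ)⟧ ⟶ T', g = ε ≫ g' := by
      rintro ⟨m, π, hπ⟩
      obtain ⟨W, ε, γ, hT⟩ := exists_epi_triangle π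
      exact ⟨W, ε, fun g hg => Triangle.yoneda_exact₂ _ hT g hg⟩
    choose W ε hε using hdata
    let D : (Σ m : ℕ, {π : e m ⟶ X // Epi π}) → Set ((DEquiv.singleB A).obj X ⟶ T') :=
      fun x => Set.range (fun g' : ((DEquiv.singleB A).obj (W x))⟦(1 : ℤ)⟧ ⟶ T' => ε x ≫ g')
    have hD : ∀ x, (D x).Countable := fun x => by
      haveI := IH (W x)
      exact Set.countable_range _
    have hU : (Set.univ : Set ((DEquiv.singleB A).obj X ⟶ T')) ⊆ ⋃ x, D x := by
      intro g _
      obtain ⟨X', π, hπ, hk⟩ := exists_epi_kill_bdd hd'neg X r' g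
      obtain ⟨n, ⟨φ⟩⟩ := he X'
      haveI : Epi (φ.inv ≫ π) := epi_comp _ _
      have hk' : (DEquiv.singleB A).map (φ.inv ≫ π) ≫ g = 0 := by
        rw [Functor.map_comp, Category.assoc, hk, comp_zero]
      obtain ⟨g', hg'⟩ := hε ⟨n, φ.inv ≫ π, inferInstance⟩ g hk'
      exact Set.mem_iUnion.2 ⟨⟨n, φ.inv ≫ π, inferInstance⟩, g', hg'.symm⟩
    exact Set.countable_univ_iff.1 ((Set.countable_iUnion hD).mono hU)

include hhom e he in
/-- countability of maps between singles -/
theorem countable_singles {d d' : ℤ} {Z Z' : DerivedCategory.Bounded A} (r : SingRep d Z)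
    (r' : SingRep d' Z') : Countable (Z ⟶ Z') := by
  by_cases h : d < d'
  · haveI : Subsingleton (Z ⟶ Z') :=
      ⟨fun g g' => by rw [r.hom_eq_zero r' h g, r.hom_eq_zero r' h g']⟩
    infer_instance
  · have h1 : Countable ((DEquiv.singleB A).obj r.Y ⟶ Z'⟦-(-d)⟧) :=
      countable_single_source hhom e he (d - d').toNat (d' - d) (by lia) r.Y _
        (r'.shift (-(-d)) (d' - d) (by lia))
    exact countable_hom_of_iso r.iso.symm (Iso.refl _) (countable_hom_shift_target (-d) h1)

include hhom e he in
/-- countability of maps from a single to an arbitrary object -/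
theorem countable_single_left : ∀ (k : ℕ) (a b : ℤ) (L : DerivedCategory.Bounded A),
    L.obj.IsGE a → L.obj.IsLE b → b - a ≤ k →
    ∀ (d : ℤ) (K : DerivedCategory.Bounded A) (_ : SingRep d K), Countable (K ⟶ L) := by
  have base : ∀ (a b : ℤ) (L : DerivedCategory.Bounded A), L.obj.IsGE a → L.obj.IsLE b → b ≤ a →
      ∀ (d : ℤ) (K : DerivedCategory.Bounded A) (_ : SingRep d K), Countable (K ⟶ L) := by
    intro a b L ha hb hab d K r
    haveI : L.obj.IsGE b := TStructure.t.isGE_of_ge L.obj b a hab
    obtain ⟨r₀⟩ := exists_singRep L b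
    exact countable_singles hhom e he r r₀
  intro k
  induction k with
  | zero =>
    intro a b L ha hb hk
    exact base a b L ha hb (by lia)
  | succ k ih =>
    intro a b L ha hb hk d K r
    by_cases hab : b ≤ a
    · exact base a b L ha hb hab d K r
    · obtain ⟨Z, rZ, ξ, L', η, δ, hT, hL1, hL2⟩ := exists_devissage L a b (by lia)
      exact countable_hom_right _ hT K (countable_singles hhom e he r rZ)
        (ih a (b - 1) L' hL1 hL2 (by lia) d K r)

include hhom e he in
/-- countability of all morphism sets in the bounded derived category -/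
theorem countable_hom_all : ∀ (k : ℕ) (a b : ℤ) (K : DerivedCategory.Bounded A),
    K.obj.IsGE a → K.obj.IsLE b → b - a ≤ k →
    ∀ (L : DerivedCategory.Bounded A), Countable (K ⟶ L) := by
  have single : ∀ (d : ℤ) (K : DerivedCategory.Bounded A) (_ : SingRep d K)
      (L : DerivedCategory.Bounded A), Countable (K ⟶ L) := by
    intro d K r L
    obtain ⟨⟨a, ha⟩, ⟨b, hb⟩⟩ := L.property
    exact countable_single_left hhom e he (b - a).toNat a b L ha hb (by lia) d K r
  have base : ∀ (a b : ℤ) (K : DerivedCategory.Bounded A), K.obj.IsGE a → K.obj.IsLE b → b ≤ a →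
      ∀ (L : DerivedCategory.Bounded A), Countable (K ⟶ L) := by
    intro a b K ha hb hab L
    haveI : K.obj.IsGE b := TStructure.t.isGE_of_ge K.obj b a hab
    obtain ⟨r₀⟩ := exists_singRep K b
    exact single b K r₀ L
  intro k
  induction k with
  | zero =>
    intro a b K ha hb hk
    exact base a b K ha hb (by lia)
  | succ k ih =>
    intro a b K ha hb hk L
    by_cases hab : b ≤ a
    · exact base a b K ha hb hab L
    · obtain ⟨Z, rZ, ξ, K', η, δ, hT, hK1, hK2⟩ := exists_devissage K a b (by lia)
      exact countable_hom_left _ hT L (single b Z rZ L) (ih a (b - 1) K' hK1 hK2 (by lia) L)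

include hhom e he in
theorem countable_hom (K L : DerivedCategory.Bounded A) : Countable (K ⟶ L) := by
  obtain ⟨⟨a, ha⟩, ⟨b, hb⟩⟩ := K.property
  exact countable_hom_all hhom e he (b - a).toNat a b K ha hb (by lia) L

end Groth.Agent.Helper6.DbCount
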