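import Mathlib
import Groth.Agent.Lib.Helper6.DbCount.Singles

set_option linter.unusedSectionVars false
set_option linter.unusedVariables false
set_option linter.unusedSimpArgs false
set_option autoImplicit false
set_option linter.style.haveILetI false
set_option maxHeartbeats 400000

universe w v u

noncomputable section

namespace Groth.Agent.Helper6.DbCount

open CategoryTheory CategoryTheory.Limits DerivedCategory CategoryTheory.Pretriangulated
open Groth.Agent.Helper6.Sib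

section general

variable {C : Type u} [Category.{v} C] [Preadditive C] [HasZeroObject C] [HasShift C ℤ]
  [∀ n : ℤ, (shiftFunctor C n).Additive] [Pretriangulated C]

/-- the middle term of a distinguished triangle is determined up to isomorphism by the
connecting morphism -/
lemma nonempty_iso_of_mor₃ (T T' : Triangle C) (hT : T ∈ distTriang C) (hT' : T' ∈ distTriang C)
    (e₁ : T.obj₁ ≅ T'.obj₁) (e₃ : T.obj₃ ≅ T'.obj₃)
    (comm : T.mor₃ ≫ e₁.hom⟦(1 : ℤ)⟧' = e₃.hom ≫ T'.mor₃) : Nonempty (T.obj₂ ≅ T'.obj₂) := by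
  obtain ⟨b, hb1, hb2⟩ := complete_distinguished_triangle_morphism₂ T T' hT hT' e₁.hom e₃.hom comm
  let Φ : T ⟶ T' :=
    { hom₁ := e₁.hom
      hom₂ := b
      hom₃ := e₃.hom
      comm₁ := hb1
      comm₂ := hb2
      comm₃ := comm }
  haveI : IsIso b := isIso₂_of_isIso₁₃ Φ hT hT' (inferInstanceAs (IsIso e₁.hom))
    (inferInstanceAs (IsIso e₃.hom))
  exact ⟨asIso b⟩

end general

variable {A : Type u} [Category.{v} A] [Abelian A] [HasDerivedCategory.{w} A]
  (hhom : ∀ X Y : A, Countable (X ⟶ Y))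
  (e : ℕ → A) (he : ∀ X : A, ∃ n : ℕ, Nonempty (X ≅ e n))

/-- representatives of singles -/
def singleReps : Set (DerivedCategory.Bounded A) :=
  Set.range (fun x : ℕ × ℤ => ((DEquiv.singleB A).obj (e x.1))⟦x.2⟧)

lemma singleReps_countable : (singleReps e).Countable := Set.countable_range _

include he in
lemma exists_mem_singleReps {d : ℤ} {K : DerivedCategory.Bounded A} (r : SingRep d K) :
    ∃ K' ∈ singleReps e, Nonempty (K ≅ K') := by
  obtain ⟨n, ⟨φ⟩⟩ := he r.Y
  exact ⟨((DEquiv.singleB A).obj (e n))⟦-d⟧, ⟨(n, -d), rfl⟩,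
    ⟨r.iso ≪≫ (shiftFunctor _ (-d)).mapIso ((DEquiv.singleB A).mapIso φ)⟩⟩

include hhom e he in
/-- countably many isomorphism classes in each amplitude -/
theorem exists_reps : ∀ k : ℕ, ∃ S : Set (DerivedCategory.Bounded A), S.Countable ∧
    ∀ (K : DerivedCategory.Bounded A) (a b : ℤ), K.obj.IsGE a → K.obj.IsLE b → b - a ≤ k →
      ∃ K' ∈ S, Nonempty (K ≅ K') := by
  have base : ∀ (K : DerivedCategory.Bounded A) (a b : ℤ), K.obj.IsGE a → K.obj.IsLE b → b ≤ a →
      ∃ K' ∈ singleReps e, Nonempty (K ≅ K') := by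
    intro K a b ha hb hab
    haveI : K.obj.IsGE b := TStructure.t.isGE_of_ge K.obj b a hab
    obtain ⟨r⟩ := exists_singRep K b
    exact exists_mem_singleReps e he r
  intro k
  induction k with
  | zero =>
    exact ⟨singleReps e, singleReps_countable e, fun K a b ha hb hk =>
      base K a b ha hb (by lia)⟩
  | succ k ih =>
    obtain ⟨S, hS, hSK⟩ := ih
    have hfib : ∀ x : (Σ (Z : singleReps e) (L : S), (L.1 ⟶ Z.1⟦(1 : ℤ)⟧)),
        ∃ (K : DerivedCategory.Bounded A) (f : x.1.1 ⟶ K) (g : K ⟶ x.2.1.1),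
          Triangle.mk f g x.2.2 ∈ distTriang (DerivedCategory.Bounded A) :=
      fun x => distinguished_cocone_triangle₂ x.2.2
    choose fibK fibf fibg fibT using hfib
    haveI : Countable (singleReps e) := (singleReps_countable e).to_subtype
    haveI : Countable S := hS.to_subtype
    haveI : ∀ (Z : singleReps e) (L : S), Countable (L.1 ⟶ Z.1⟦(1 : ℤ)⟧) := fun Z L =>
      countable_hom hhom e he _ _
    refine ⟨S ∪ singleReps e ∪ Set.range fibK,
      (hS.union (singleReps_countable e)).union (Set.countable_range _), ?_⟩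
    intro K a b ha hb hk
    by_cases hab : b ≤ a
    · obtain ⟨K', hK', hiso⟩ := base K a b ha hb hab
      exact ⟨K', Or.inl (Or.inr hK'), hiso⟩
    · obtain ⟨Z₁, r, ξ, L₁, η, δ₁, hT, hL1, hL2⟩ := exists_devissage K a b (by lia)
      obtain ⟨Z₀, hZ₀, ⟨eZ⟩⟩ := exists_mem_singleReps e he r
      obtain ⟨L₀, hL₀, ⟨eL⟩⟩ := hSK L₁ a (b - 1) hL1 hL2 (by lia)
      let δ₀ : L₀ ⟶ Z₀⟦(1 : ℤ)⟧ := eL.inv ≫ δ₁ ≫ eZ.hom⟦(1 : ℤ)⟧'
      let x : (Σ (Z : singleReps e) (L : S), (L.1 ⟶ Z.1⟦(1 : ℤ)⟧)) := ⟨⟨Z₀, hZ₀⟩, ⟨L₀, hL₀⟩, δ₀⟩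
      have hiso : Nonempty (K ≅ fibK x) :=
        nonempty_iso_of_mor₃ (Triangle.mk ξ η δ₁) _ hT (fibT x) eZ eL (by
          change δ₁ ≫ eZ.hom⟦(1 : ℤ)⟧' = eL.hom ≫ eL.inv ≫ δ₁ ≫ eZ.hom⟦(1 : ℤ)⟧'
          rw [Iso.hom_inv_id_assoc])
      exact ⟨fibK x, Or.inr ⟨x, rfl⟩, hiso⟩

include hhom he in
/-- the bounded derived category of a countable abelian category is countable -/
theorem countable_bounded :
    (∀ K L : DerivedCategory.Bounded A, Countable (K ⟶ L)) ∧
      ∃ e' : ℕ → DerivedCategory.Bounded A, ∀ K : DerivedCategory.Bounded A,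
        ∃ n : ℕ, Nonempty (K ≅ e' n) := by
  refine ⟨countable_hom hhom e he, ?_⟩
  choose S hS hSK using exists_reps hhom e he
  have hne : (⋃ k, S k).Nonempty := by
    obtain ⟨K', hK', -⟩ := hSK 0 ((DEquiv.singleB A).obj (e 0)) 0 0
      (inferInstanceAs (((DerivedCategory.singleFunctor A 0).obj (e 0)).IsGE 0))
      (inferInstanceAs (((DerivedCategory.singleFunctor A 0).obj (e 0)).IsLE 0)) (by simp)
    exact ⟨K', Set.mem_iUnion.2 ⟨0, hK'⟩⟩
  obtain ⟨e', he'⟩ := (Set.countable_iUnion hS).exists_eq_range hne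
  refine ⟨e', fun K => ?_⟩
  obtain ⟨⟨a, ha⟩, ⟨b, hb⟩⟩ := K.property
  obtain ⟨K', hK', hiso⟩ := hSK (b - a).toNat K a b ha hb (by lia)
  have : K' ∈ Set.range e' := he' ▸ Set.mem_iUnion.2 ⟨_, hK'⟩
  obtain ⟨n, rfl⟩ := this
  exact ⟨n, hiso⟩

end Groth.Agent.Helper6.DbCount
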